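import Cfsg.Agent.Spor.Chk

set_option autoImplicit false
set_option maxRecDepth 100000000
set_option Elab.async false
noncomputable section

namespace Cfsg.Agent.Spor.Ruc

def m0_0 : Nat := nat_lit 0xb0
def m0_1 : Nat := nat_lit 0x4
def m0_2 : Nat := nat_lit 0x2
def m0_3 : Nat := nat_lit 0x1104
def m0_4 : Nat := nat_lit 0x2001
def m0_5 : Nat := nat_lit 0x200
def m0_6 : Nat := nat_lit 0xb0
def n0 : Net := Net.cons 8 m0_0 (Net.cons 4 m0_1 (Net.cons 2 m0_2 (Net.cons 1 m0_3 (Net.cons 2 m0_4 (Net.cons 4 m0_5 (Net.cons 8 m0_6 (Net.nil)))))))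

def m1_0 : Nat := nat_lit 0xe0
def m1_1 : Nat := nat_lit 0x601
def m1_2 : Nat := nat_lit 0x2102
def m1_3 : Nat := nat_lit 0x101
def m1_4 : Nat := nat_lit 0x101
def m1_5 : Nat := nat_lit 0x401
def m1_6 : Nat := nat_lit 0xe0
def n1 : Net := Net.cons 8 m1_0 (Net.cons 4 m1_1 (Net.cons 2 m1_2 (Net.cons 1 m1_3 (Net.cons 2 m1_4 (Net.cons 4 m1_5 (Net.cons 8 m1_6 (Net.nil)))))))

def m2_0 : Nat := nat_lit 0xa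
def m2_1 : Nat := nat_lit 0x1
def m2_2 : Nat := nat_lit 0x1
def m2_3 : Nat := nat_lit 0x1
def m2_4 : Nat := nat_lit 0x2
def n2 : Net := Net.cons 4 m2_0 (Net.cons 2 m2_1 (Net.cons 1 m2_2 (Net.cons 2 m2_3 (Net.cons 4 m2_4 (Net.nil)))))

def m3_0 : Nat := nat_lit 0xc4
def m3_1 : Nat := nat_lit 0x602
def m3_2 : Nat := nat_lit 0x2002
def m3_3 : Nat := nat_lit 0x4010
def m3_4 : Nat := nat_lit 0x200
def m3_5 : Nat := nat_lit 0xc4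
def n3 : Net := Net.cons 8 m3_0 (Net.cons 4 m3_1 (Net.cons 2 m3_2 (Net.cons 1 m3_3 (Net.cons 4 m3_4 (Net.cons 8 m3_5 (Net.nil))))))

def ip1 : List Nat := [0x25c, 0x88, 0x310]
def l1 : Let := ⟨0, false, 0x3ff, 0x10a, [0x3c4, 0x318, 0x398]⟩

def ip2 : List Nat := [0x234, 0x1ac, 0xf0]
def l2 : Let := ⟨1, false, 0x3ff, 0x10, [0x344, 0x1dc, 0x1e0]⟩

def ip3 : List Nat := [0x260, 0x312, 0xd0]
def l3 : Let := ⟨2, false, 0x3ff, 0xa0, [0x2e0, 0x252, 0x1e0]⟩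

def ip4 : List Nat := [0x1ea, 0x240, 0xb0]
def l4 : Let := ⟨0, true, 0x3ff, 0x44, [0x39a, 0x2e0, 0x2f0]⟩

def ip5 : List Nat := [0x239, 0x1aa, 0x284]
def l5 : Let := ⟨1, true, 0x3ff, 0x200, [0x139, 0x32e, 0x3a0]⟩

def ip6 : List Nat := [0x1b6, 0x1d, 0x31a, 0x40]
def l6 : Let := ⟨2, true, 0x3ff, 0x0, [0x2ed, 0x252, 0x14c]⟩

def ip7 : List Nat := [0x32, 0x2c, 0x98]
def l7 : Let := ⟨3, false, 0xbf, 0x0, [0x32, 0x34, 0x8a]⟩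

def ip8 : List Nat := [0x39, 0x72, 0x27]
def l8 : Let := ⟨3, true, 0x7f, 0x0, [0x1b, 0x52, 0x2c]⟩

def NT : List Net := [n0, n1, n2, n3]
def LT : List Let := [⟨0, false, 0, 0, []⟩, l1, l2, l3, l4, l5, l6, l7, l8]
def T : Tab := ⟨NT, LT⟩
def EX : List (List Nat) := [[], [0], [2], [4], [1], [3], [5], [1, 1, 3, 0], [1, 2, 0, 0]]
def RL : List (List Nat) := [[3, 5, 3, 5, 3, 5, 3, 5], [4, 2, 2, 4, 3, 5, 1, 2, 0, 0, 5, 3, 1, 1, 3, 0], [4, 2, 2, 4, 2, 4, 3, 5, 5, 3, 5, 3], [5, 3, 1, 2, 0, 0, 5, 3, 5, 3, 1, 1, 3, 0, 5, 3], [3, 5, 5, 3, 4, 2, 5, 3, 1, 1, 3, 1, 3, 0], [1, 1, 3, 1, 3, 1, 3, 1, 3, 0], [3, 5, 1, 1, 3, 0, 3, 5, 3, 5, 1, 1, 3, 0, 3, 5, 1, 1, 3, 1, 3, 0], [3, 5, 1, 1, 3, 0, 3, 5, 1, 1, 3, 0, 3, 5, 1, 1, 3, 0, 3, 5, 1, 1, 3, 0], [2, 2, 2, 2], [4, 2, 1, 2, 0, 0, 5, 3, 3, 1, 1, 3, 0, 2], [1, 2, 0,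 0, 4, 2, 2, 4, 4, 4, 1, 1, 3, 0, 2, 2], [3, 5, 5, 5, 5, 2], [1, 2, 0, 0, 2, 5, 3, 1, 1, 3, 4, 0], [5, 1, 2, 0, 0, 2, 4, 0, 2, 2, 0], [5, 5, 3, 1, 2, 0, 0, 5, 1, 3, 4, 2, 0]]
def XL : List (List Nat) := []
def BW : List (List Nat) := [[2], [4], [1, 1, 3, 0]]
def IV : Nat := 0x70803020106050400
def L : List Nat := [1, 2, 3, 4, 5, 6, 7, 8]
def gs : List Nat := [1, 2, 3]
def base : List Nat := [2, 3, 7]

end Cfsg.Agent.Spor.Ruc
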